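import Groth.Prelude.Def_CGrpSh
import Mathlib.Algebra.Homology.DerivedCategory.Ext.ExactSequences

/-!
Extensions with the same class are equivalent; homomorphisms of point sheaves come from homomorphisms of group schemes.
-/

set_option autoImplicit false
set_option backward.isDefEq.respectTransparency false
set_option backward.isDefEq.respectTransparency.types false

universe w v u

open CategoryTheory CategoryTheory.Limits CategoryTheory.Abelian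

namespace Groth.Agent.CGrpExt

section Abstract

variable {C : Type u} [Category.{v} C] [Abelian C] [HasExt.{w} C]

/-- Two extensions with the same class are equivalent. -/
theorem exists_iso_of_extClass_eq {A Q B₁ B₂ : C} (f₁ : A ⟶ B₁) (g₁ : B₁ ⟶ Q) (f₂ : A ⟶ B₂) (g₂ : B₂ ⟶ Q)
    {z₁ : f₁ ≫ g₁ = 0} {z₂ : f₂ ≫ g₂ = 0} (h₁ : (ShortComplex.mk f₁ g₁ z₁).ShortExact)
    (h₂ : (ShortComplex.mk f₂ g₂ z₂).ShortExact) (hcl : h₁.extClass = h₂.extClass) :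
    ∃ φ : B₁ ⟶ B₂, IsIso φ ∧ f₁ ≫ φ = f₂ ∧ φ ≫ g₂ = g₁ := by
  obtain ⟨s₀, hs₀⟩ := Ext.covariant_sequence_exact₃ B₁ h₂ (Ext.mk₀ g₁) (zero_add 1)
    (by rw [← hcl]; exact h₁.comp_extClass)
  obtain ⟨s, rfl⟩ := (Ext.mk₀_bijective _ _).2 s₀
  rw [Ext.mk₀_comp_mk₀] at hs₀
  have hs : s ≫ g₂ = g₁ := (Ext.mk₀_bijective _ _).1 hs₀
  have := h₂.mono_f
  obtain ⟨a, ha⟩ : ∃ a : A ⟶ A, a ≫ f₂ = f₁ ≫ s :=
    ⟨h₂.exact.lift (f₁ ≫ s) (by simp [hs, z₁]), h₂.exact.lift_f _ _⟩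
  let φ : ShortComplex.mk f₁ g₁ z₁ ⟶ ShortComplex.mk f₂ g₂ z₂ :=
    { τ₁ := a, τ₂ := s, τ₃ := 𝟙 Q, comm₁₂ := ha, comm₂₃ := by simp [hs] }
  have hnat : h₁.extClass.comp (Ext.mk₀ a) (add_zero 1) = h₁.extClass := by
    refine (ShortComplex.ShortExact.extClass_naturality h₁ h₂ φ).trans ?_
    rw [hcl]
    exact Ext.mk₀_id_comp _
  have hid : h₁.extClass.comp (Ext.mk₀ (𝟙 A)) (add_zero 1) = h₁.extClass := Ext.comp_mk₀_id _
  obtain ⟨k₀, hk₀⟩ := Ext.contravariant_sequence_exact₁ h₁ A (Ext.mk₀ (a - 𝟙 A)) (add_zero 1) (by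
    rw [sub_eq_add_neg, Ext.mk₀_add, Ext.comp_add, Ext.mk₀_neg, Ext.comp_neg, ← sub_eq_add_neg]
    exact sub_eq_zero.2 (hnat.trans hid.symm))
  obtain ⟨k, rfl⟩ := (Ext.mk₀_bijective _ _).2 k₀
  rw [Ext.mk₀_comp_mk₀] at hk₀
  have hk : f₁ ≫ k = a - 𝟙 A := (Ext.mk₀_bijective _ _).1 hk₀
  have hf : f₁ ≫ (s - k ≫ f₂) = f₂ := by
    rw [Preadditive.comp_sub, ← Category.assoc, hk, Preadditive.sub_comp, ha, Category.id_comp, sub_sub_cancel]
  have hg : (s - k ≫ f₂) ≫ g₂ = g₁ := by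
    rw [Preadditive.sub_comp, Category.assoc, z₂, comp_zero, sub_zero, hs]
  let ψ : ShortComplex.mk f₁ g₁ z₁ ⟶ ShortComplex.mk f₂ g₂ z₂ :=
    { τ₁ := 𝟙 A, τ₂ := s - k ≫ f₂, τ₃ := 𝟙 Q, comm₁₂ := by simp [hf], comm₂₃ := by simp [hg] }
  haveI : IsIso ψ.τ₁ := inferInstanceAs (IsIso (𝟙 A))
  haveI : IsIso ψ.τ₃ := inferInstanceAs (IsIso (𝟙 Q))
  exact ⟨s - k ≫ f₂, ShortComplex.isIso₂_of_shortExact_of_isIso₁₃ ψ h₁ h₂, hf, hg⟩

end Abstract

section Points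

open AlgebraicGeometry Opposite MonObj MonoidalCategory CartesianMonoidalCategory

universe u₁

variable {S : Scheme.{u₁}} (K : Precoverage Scheme.{u₁}) [(QuotSh.J K S).Subcanonical] {G H : Over S}
  [GrpObj G] [IsCommMonObj G] [GrpObj H] [IsCommMonObj H]

/-- The morphism of schemes underlying a morphism of point sheaves. -/
noncomputable def pre (φ : CGrpSh.pts K G ⟶ CGrpSh.pts K H) : G ⟶ H :=
  (φ.hom.app (op G) ⟨Additive.ofMul (𝟙 G)⟩).down.toMul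

theorem app_eq (φ : CGrpSh.pts K G ⟶ CGrpSh.pts K H) {T : Over S} (x : T ⟶ G) :
    (φ.hom.app (op T) ⟨Additive.ofMul x⟩).down.toMul = x ≫ pre K φ := by
  have h := ConcreteCategory.congr_hom (φ.hom.naturality x.op) (ULift.up (Additive.ofMul (𝟙 G)))
  have h' : (CGrpSh.ptsPre G).map x.op (ULift.up (Additive.ofMul (𝟙 G))) = (ULift.up (Additive.ofMul x)) :=
    ULift.ext _ _ (congrArg Additive.ofMul (Category.comp_id x))
  refine (congrArg (fun y => (φ.hom.app (op T) y).down.toMul) h'.symm).trans ?_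
  exact congrArg (fun y : (CGrpSh.ptsPre H).obj (op T) => y.down.toMul) h

theorem pre_ptsMap (f : G ⟶ H) [IsMonHom f] : pre K (CGrpSh.ptsMap K f) = f := Category.id_comp f

theorem pre_comp {L : Over S} [GrpObj L] [IsCommMonObj L] (φ : CGrpSh.pts K G ⟶ CGrpSh.pts K H)
    (ψ : CGrpSh.pts K H ⟶ CGrpSh.pts K L) : pre K (φ ≫ ψ) = pre K φ ≫ pre K ψ :=
  app_eq K ψ (pre K φ)

theorem pre_id : pre K (𝟙 (CGrpSh.pts K G)) = 𝟙 G := rfl

theorem isMonHom_pre (φ : CGrpSh.pts K G ⟶ CGrpSh.pts K H) : IsMonHom (pre K φ) where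
  one_hom := by
    rw [← app_eq K φ η[G]]
    have h1 : η[G] = (1 : 𝟙_ (Over S) ⟶ G) := by
      rw [Hom.one_def, toUnit_unique (toUnit (𝟙_ (Over S))) (𝟙 _), Category.id_comp]
    have h2 : η[H] = (1 : 𝟙_ (Over S) ⟶ H) := by
      rw [Hom.one_def, toUnit_unique (toUnit (𝟙_ (Over S))) (𝟙 _), Category.id_comp]
    rw [h1, h2]
    exact congrArg (fun y : (CGrpSh.ptsPre H).obj (op (𝟙_ (Over S))) => y.down.toMul)
      (map_zero (φ.hom.app (op (𝟙_ (Over S)))).hom)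
  mul_hom := by
    have hμG : μ[G] = fst G G * snd G G := by rw [Hom.mul_def, lift_fst_snd, Category.id_comp]
    rw [← app_eq K φ μ[G], hμG]
    have h := map_add (φ.hom.app (op (G ⊗ G))).hom (ULift.up (Additive.ofMul (fst G G)) :
      (CGrpSh.ptsPre G).obj (op (G ⊗ G))) (ULift.up (Additive.ofMul (snd G G)))
    refine (congrArg (fun y : (CGrpSh.ptsPre H).obj (op (G ⊗ G)) => y.down.toMul) h).trans ?_
    show (φ.hom.app (op (G ⊗ G)) ⟨Additive.ofMul (fst G G)⟩).down.toMul *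
      (φ.hom.app (op (G ⊗ G)) ⟨Additive.ofMul (snd G G)⟩).down.toMul = _
    rw [app_eq, app_eq, Hom.mul_def, lift_fst_comp_snd_comp]

theorem isIso_pre (φ : CGrpSh.pts K G ⟶ CGrpSh.pts K H) [IsIso φ] : IsIso (pre K φ) :=
  ⟨pre K (inv φ), by rw [← pre_comp, IsIso.hom_inv_id, pre_id], by rw [← pre_comp, IsIso.inv_hom_id, pre_id]⟩

end Points

end Groth.Agent.CGrpExt
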